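import Mathlib

/-!
The largest open over which (resp. on which) a property local for a precoverage holds.
-/

set_option backward.isDefEq.respectTransparency false
set_option autoImplicit false
universe u
open CategoryTheory CategoryTheory.Limits AlgebraicGeometry

namespace Groth.Agent.LargestOpenLib

variable (Q : MorphismProperty Scheme.{u}) [Q.IsStableUnderComposition] [Q.IsStableUnderBaseChange]

section

variable {Q}
variable (hQ : ∀ {A B : Scheme.{u}} (j : A ⟶ B) [IsOpenImmersion j], Q j)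
include hQ

/-- A map with `Q` is a member of some cover: add the identity. -/
theorem exists_cover_of_mem {A B : Scheme.{u}} (g : A ⟶ B) (hg : Q g) :
    ∃ R ∈ Scheme.precoverage Q B, R g := by
  refine ⟨Presieve.ofArrows (fun b : Option PUnit.{u + 1} => b.elim B fun _ => A)
    (fun b => Option.rec (motive := fun b => (b.elim B fun _ => A) ⟶ B) (𝟙 B) (fun _ => g) b), ?_, ?_⟩
  · rw [Scheme.ofArrows_mem_precoverage_iff]
    refine ⟨fun x => ⟨none, x, rfl⟩, fun b => ?_⟩
    match b with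
    | none => exact hQ (𝟙 B)
    | some _ => exact hg
  · exact Presieve.ofArrows.mk (Y := fun b : Option PUnit.{u + 1} => b.elim B fun _ => A)
      (f := fun b => Option.rec (motive := fun b => (b.elim B fun _ => A) ⟶ B) (𝟙 B) (fun _ => g) b)
      (some PUnit.unit)

/-- Factor a map with `Q` and open image through its image. -/
theorem exists_factor {X' X : Scheme.{u}} (g : X' ⟶ X) (hg : Q g) (U : X.Opens)
    (hU : (U : Set X) = Set.range g) :
    ∃ g' : X' ⟶ U.toScheme, g' ≫ U.ι = g ∧ Q g' ∧ Surjective g' := by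
  have hle : (⊤ : X'.Opens) ≤ g ⁻¹ᵁ U := fun x _ => show g x ∈ (U : Set X) from hU ▸ ⟨x, rfl⟩
  refine ⟨(X'.topIso.inv ≫ X'.homOfLE hle) ≫ g ∣_ U, ?_, ?_, ?_⟩
  · simp [Scheme.homOfLE_ι_assoc]
  · exact Q.comp_mem _ _ (hQ _)
      (MorphismProperty.of_isPullback (isPullback_morphismRestrict g U).flip hg)
  · constructor
    intro x
    obtain ⟨y, hy⟩ : x.1 ∈ Set.range g := hU ▸ x.2
    refine ⟨y, U.ι.isOpenEmbedding.injective ?_⟩
    rw [← Scheme.Hom.comp_apply]
    simp [Scheme.homOfLE_ι_assoc, hy]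

end

theorem singleton_mem {A B : Scheme.{u}} (g : A ⟶ B) (hg : Q g) [Surjective g] :
    Presieve.singleton g ∈ Scheme.precoverage Q B := by
  rw [← Presieve.ofArrows_pUnit.{0}]
  rw [Scheme.ofArrows_mem_precoverage_iff]
  exact ⟨fun x => ⟨PUnit.unit, g.surjective x⟩, fun _ => hg⟩

/-! ### On the source -/

section Source

variable {Q}
variable (P : MorphismProperty Scheme.{u}) [P.IsLocalAtSource (Scheme.precoverage Q)]
  (hQ : ∀ {A B : Scheme.{u}} (j : A ⟶ B) [IsOpenImmersion j], Q j)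
  (hopen : ∀ {A B : Scheme.{u}} (g : A ⟶ B), Q g → IsOpenMap g)
include hQ

theorem exists_largest_source {X Y : Scheme.{u}} (f : X ⟶ Y) :
    ∃ W : X.Opens, P (W.ι ≫ f) ∧ ∀ W' : X.Opens, P (W'.ι ≫ f) → W' ≤ W := by
  let ι := {W' : X.Opens // P (W'.ι ≫ f)}
  let W : X.Opens := ⨆ i : ι, i.1
  refine ⟨W, ?_, fun W' h => le_iSup (fun i : ι => i.1) ⟨W', h⟩⟩
  have hR : Presieve.ofArrows _ (fun i : ι => X.homOfLE (le_iSup (fun i : ι => i.1) i)) ∈
      Scheme.precoverage Q W.toScheme := by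
    rw [Scheme.ofArrows_mem_precoverage_iff]
    refine ⟨fun x => ?_, fun i => hQ _⟩
    obtain ⟨i, hi⟩ := TopologicalSpace.Opens.mem_iSup.1 x.2
    refine ⟨i, ⟨x.1, hi⟩, W.ι.isOpenEmbedding.injective ?_⟩
    rw [← Scheme.Hom.comp_apply, Scheme.homOfLE_ι]
    rfl
  refine MorphismProperty.IsLocalAtSource.of_forall_comp hR fun U g hg => ?_
  obtain ⟨i⟩ := hg
  rw [Scheme.homOfLE_ι_assoc]
  exact i.2

include hopen in
theorem largest_source_pullback {X Y : Scheme.{u}} (f : X ⟶ Y) (W : X.Opens)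
    (hW : P (W.ι ≫ f)) (hmax : ∀ W' : X.Opens, P (W'.ι ≫ f) → W' ≤ W)
    {X' : Scheme.{u}} (g : X' ⟶ X) (hg : Q g) (V : X'.Opens)
    (hV : P (V.ι ≫ g ≫ f)) (hVmax : ∀ V' : X'.Opens, P (V'.ι ≫ g ≫ f) → V' ≤ V) :
    V = g ⁻¹ᵁ W := by
  refine le_antisymm ?_ (hVmax _ ?_)
  · have hVg : Q (V.ι ≫ g) := Q.comp_mem _ _ (hQ _) hg
    let U : X.Opens := ⟨Set.range (V.ι ≫ g), (hopen _ hVg).isOpen_range⟩
    obtain ⟨g', hg'ι, hg'Q, hsurj⟩ := exists_factor hQ (V.ι ≫ g) hVg U rfl
    have hU : P (U.ι ≫ f) := by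
      refine MorphismProperty.IsLocalAtSource.of_forall_comp (singleton_mem Q g' hg'Q) fun Z l hl => ?_
      obtain ⟨⟩ := hl
      rw [← Category.assoc, hg'ι, Category.assoc]
      exact hV
    intro x hx
    exact hmax U hU (show g x ∈ U from ⟨⟨x, hx⟩, rfl⟩)
  · have hres : Q (g ∣_ W) := MorphismProperty.of_isPullback (isPullback_morphismRestrict g W).flip hg
    obtain ⟨R, hR, hRg⟩ := exists_cover_of_mem hQ (g ∣_ W) hres
    rw [← Category.assoc, ← morphismRestrict_ι g W, Category.assoc]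
    exact MorphismProperty.IsLocalAtSource.comp hR _ hRg hW

end Source

/-! ### On the target -/

section Target

variable {Q}
variable (P : MorphismProperty Scheme.{u}) [P.IsLocalAtTarget (Scheme.precoverage Q)]

omit [Q.IsStableUnderComposition] [Q.IsStableUnderBaseChange] in
include Q in
theorem P_pullback_comp_iff {X Y A B : Scheme.{u}} (f : X ⟶ Y) (a : A ⟶ Y) (b : B ⟶ A) :
    P (pullback.snd (pullback.snd f a) b) ↔ P (pullback.snd f (b ≫ a)) := by
  haveI : P.RespectsIso :=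
    (inferInstance : P.IsLocalAtTarget (Scheme.precoverage Q)).toRespects
  have h := (IsPullback.of_hasPullback (pullback.snd f a) b).paste_horiz
    (IsPullback.of_hasPullback f a)
  rw [← P.cancel_left_of_respectsIso h.isoPullback.inv, h.isoPullback_inv_snd]

omit [Q.IsStableUnderComposition] [Q.IsStableUnderBaseChange] in
include Q in
theorem P_restrict_iff {X Y : Scheme.{u}} (f : X ⟶ Y) (U : Y.Opens) :
    P (f ∣_ U) ↔ P (pullback.snd f U.ι) := by
  haveI : P.RespectsIso :=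
    (inferInstance : P.IsLocalAtTarget (Scheme.precoverage Q)).toRespects
  have h := (isPullback_morphismRestrict f U).flip
  rw [← P.cancel_left_of_respectsIso h.isoPullback.inv, h.isoPullback_inv_snd]

variable (hQ : ∀ {A B : Scheme.{u}} (j : A ⟶ B) [IsOpenImmersion j], Q j)
  (hopen : ∀ {A B : Scheme.{u}} (g : A ⟶ B), Q g → IsOpenMap g)
include hQ

theorem exists_largest_target {X Y : Scheme.{u}} (f : X ⟶ Y) :
    ∃ W : Y.Opens, P (f ∣_ W) ∧ ∀ W' : Y.Opens, P (f ∣_ W') → W' ≤ W := by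
  let ι := {W' : Y.Opens // P (f ∣_ W')}
  let W : Y.Opens := ⨆ i : ι, i.1
  refine ⟨W, ?_, fun W' h => le_iSup (fun i : ι => i.1) ⟨W', h⟩⟩
  have hR : Presieve.ofArrows _ (fun i : ι => Y.homOfLE (le_iSup (fun i : ι => i.1) i)) ∈
      Scheme.precoverage Q W.toScheme := by
    rw [Scheme.ofArrows_mem_precoverage_iff]
    refine ⟨fun x => ?_, fun i => hQ _⟩
    obtain ⟨i, hi⟩ := TopologicalSpace.Opens.mem_iSup.1 x.2
    refine ⟨i, ⟨x.1, hi⟩, W.ι.isOpenEmbedding.injective ?_⟩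
    rw [← Scheme.Hom.comp_apply, Scheme.homOfLE_ι]
    rfl
  rw [P_restrict_iff P (Q := Q)]
  refine MorphismProperty.IsLocalAtTarget.of_forall_pullbackSnd hR fun {U g} _ hg => ?_
  obtain ⟨i⟩ := hg
  rw [P_pullback_comp_iff P (Q := Q), Scheme.homOfLE_ι, ← P_restrict_iff P (Q := Q)]
  exact i.2

include hopen in
theorem range_subset_target {X Y : Scheme.{u}} (f : X ⟶ Y) (W : Y.Opens)
    (hmax : ∀ W' : Y.Opens, P (f ∣_ W') → W' ≤ W) {Y' : Scheme.{u}} (g : Y' ⟶ Y) (hg : Q g)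
    (hP : P (pullback.snd f g)) : Set.range g ⊆ (W : Set Y) := by
  let U : Y.Opens := ⟨Set.range g, (hopen _ hg).isOpen_range⟩
  obtain ⟨g', hg'ι, hg'Q, hsurj⟩ := exists_factor hQ g hg U rfl
  have hU : P (f ∣_ U) := by
    rw [P_restrict_iff P (Q := Q)]
    refine MorphismProperty.IsLocalAtTarget.of_forall_pullbackSnd (singleton_mem Q g' hg'Q)
      fun {Z l} _ hl => ?_
    obtain ⟨⟩ := hl
    rw [P_pullback_comp_iff P (Q := Q), hg'ι]
    exact hP
  exact hmax U hU

include hopen in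
theorem largest_target_pullback {X Y : Scheme.{u}} (f : X ⟶ Y) (W : Y.Opens) (hW : P (f ∣_ W))
    (hmax : ∀ W' : Y.Opens, P (f ∣_ W') → W' ≤ W) {Y' : Scheme.{u}} (g : Y' ⟶ Y) (hg : Q g)
    (W' : Y'.Opens) (hW' : P (pullback.snd f g ∣_ W'))
    (hW'max : ∀ W₀ : Y'.Opens, P (pullback.snd f g ∣_ W₀) → W₀ ≤ W') :
    W' = g ⁻¹ᵁ W := by
  refine le_antisymm ?_ (hW'max _ ?_)
  · rw [P_restrict_iff P (Q := Q), P_pullback_comp_iff P (Q := Q)] at hW'
    intro x hx
    exact range_subset_target P hQ hopen f W hmax (W'.ι ≫ g) (Q.comp_mem _ _ (hQ _) hg) hW'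
      ⟨⟨x, hx⟩, rfl⟩
  · have hres : Q (g ∣_ W) := MorphismProperty.of_isPullback (isPullback_morphismRestrict g W).flip hg
    obtain ⟨R, hR, hRg⟩ := exists_cover_of_mem hQ (g ∣_ W) hres
    rw [P_restrict_iff P (Q := Q)] at hW
    rw [P_restrict_iff P (Q := Q), P_pullback_comp_iff P (Q := Q), ← morphismRestrict_ι g W,
      ← P_pullback_comp_iff P (Q := Q)]
    exact MorphismProperty.IsLocalAtTarget.pullbackSnd hR hRg hW

end Target

end Groth.Agent.LargestOpenLib
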